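import Groth.Agent.Lib.H12.FlatComp
import Groth.Agent.Lib.FppfSource.Scheme
import Groth.Agent.Lib.VarDim.Irred
import Mathlib.AlgebraicGeometry.Geometrically.Integral
import Mathlib.AlgebraicGeometry.Morphisms.Proper

/-!
# Flat surjective images of proper geometrically integral schemes over a field
-/

set_option autoImplicit false
set_option linter.style.haveILetI false
set_option backward.isDefEq.respectTransparency.types false

universe u

open CategoryTheory CategoryTheory.Limits AlgebraicGeometry

noncomputable section

namespace Groth.Agent.ThetaSch13

/-- The image under a faithfully flat morphism of a geometrically integral scheme is geometrically integral. -/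
theorem geometricallyIntegral_of_flat_surjective {X Y S : Scheme.{u}} (p : X ⟶ Y) (g : Y ⟶ S) [Flat p] [Surjective p]
    [GeometricallyIntegral (p ≫ g)] : GeometricallyIntegral g := by
  refine ⟨fun L _ y W fst snd hpb => ?_⟩
  let sq := IsPullback.of_hasPullback p fst
  haveI : IsIntegral (pullback p fst) :=
    GeometricallyIntegral.geometrically_isIntegral (f := p ≫ g) y _ _ (sq.paste_vert hpb)
  haveI : Flat (pullback.snd p fst) := MorphismProperty.pullback_snd _ _ inferInstance
  haveI : Surjective (pullback.snd p fst) := MorphismProperty.pullback_snd _ _ inferInstance
  rw [isIntegral_iff_irreducibleSpace_and_isReduced]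
  refine ⟨?_, H12.isReduced_of_flat_surjective (pullback.snd p fst)⟩
  have hu : Set.range (pullback.snd p fst) = Set.univ := (pullback.snd p fst).surjective.range_eq
  have h1 : IsIrreducible (Set.univ : Set W) := by
    rw [← hu, ← Set.image_univ]
    exact (IrreducibleSpace.isIrreducible_univ _).image _ (pullback.snd p fst).continuous.continuousOn
  exact (irreducibleSpace_def W).2 h1

/-- A separated flat surjective image of a proper scheme over a field is proper. -/
theorem isProper_of_fppf {k : Type u} [Field k] {X Y : Scheme.{u}} (p : X ⟶ Y) (g : Y ⟶ Spec (CommRingCat.of k))
    [Flat p] [Surjective p] [LocallyOfFinitePresentation p] [IsProper (p ≫ g)] [IsSeparated g] : IsProper g := by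
  haveI : UniversallyClosed g := UniversallyClosed.of_comp_surjective p g
  haveI : LocallyOfFinitePresentation (p ≫ g) := VarDim.locallyOfFinitePresentation_of_locallyNoetherian _
  haveI : LocallyOfFinitePresentation g := FppfSource.locallyOfFinitePresentation_of_fppf_comp p g
  exact {}

end Groth.Agent.ThetaSch13
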