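import Groth.Agent.Lib.ThetaSch13.Torsor

/-!
# Level subgroups map isomorphically to finite type subgroups
-/

set_option autoImplicit false
set_option linter.style.haveILetI false
set_option linter.unusedSectionVars false
set_option backward.isDefEq.respectTransparency.types false

universe u

open CategoryTheory CategoryTheory.Limits CategoryTheory.Pseudofunctor MonoidalCategory CartesianMonoidalCategory MonObj AlgebraicGeometry Opposite
open TopologicalSpace

noncomputable section

namespace Groth.Agent.ThetaSch13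

open ThetaGrp ThetaGrp19

section

variable {S : Scheme.{u}} {A : Over S} [GrpObj A] [IsCommMonObj A] {L : A.left.Modules}
  {G : Over S} [GrpObj G] {u : thetaPts A L G} (hG : IsThetaGrpSch A L G u)

theorem ptOf_mul {T : Over S} (β δ : thetaPts A L T) : ptOf (β * δ) = ptOf β * ptOf δ :=
  ptOf_eq (by
    show (δ.1.hom ≫ β.1.hom).base = _
    rw [CoGrothendieck.categoryStruct_comp_base, isOverPt_ptOf β, isOverPt_ptOf δ, mul_comm (ptOf β), transl_mul,
      Over.comp_left])

include hG in
theorem pull_mul_pts {T : Over S} (g h : T ⟶ G) : pull (g * h) u = pull g u * pull h u :=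
  (eq_pull (hG.mul T g h _ _ (pull_spec g u) (pull_spec h u))).symm

include hG in
/-- The map of the theta group to the group scheme is a homomorphism. -/
theorem isMonHom_ptOf : IsMonHom (ptOf u) where
  one_hom := by
    have h1 : pull (η[G] : 𝟙_ (Over S) ⟶ G) u = 1 := by
      have h := pull_mul_pts hG (1 : 𝟙_ (Over S) ⟶ G) 1
      rw [_root_.one_mul] at h
      have e : (1 : 𝟙_ (Over S) ⟶ G) = η[G] := by rw [Hom.one_def, toUnit_unique (toUnit _) (𝟙 _), Category.id_comp]
      rw [e] at h
      exact left_eq_mul.1 h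
    have h2 : ptOf (1 : thetaPts A L (𝟙_ (Over S))) = 1 := by
      have h := ptOf_mul (1 : thetaPts A L (𝟙_ (Over S))) 1
      rw [_root_.one_mul] at h
      exact left_eq_mul.1 h
    have h3 := congrArg ptOf h1
    rw [ptOf_pull, h2, Hom.one_def, toUnit_unique (toUnit _) (𝟙 _), Category.id_comp] at h3
    exact h3
  mul_hom := by
    have h1 : μ[G] = fst G G * snd G G := by rw [Hom.mul_def, lift_fst_snd, Category.id_comp]
    rw [← ptOf_pull μ[G] u, h1, pull_mul_pts hG, ptOf_mul, ptOf_pull, ptOf_pull, Hom.mul_def]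
    congr 1

end

variable {S : Scheme.{u}} {A : Over S} [GrpObj A] [IsCommMonObj A] {L : A.left.Modules}
  {G : Over S} [GrpObj G] {u : thetaPts A L G} (hG : IsThetaGrpSch A L G u)
  {H : Over S} [GrpObj H] {j : H ⟶ G} (hj : IsLevelSubgrp u j) {iH : H ⟶ A}
  (hover : ∀ (T : Over S) (h : T ⟶ H) (β : thetaPts A L T), IsBaseChange β (h ≫ j) u → IsOverPt β (h ≫ iH))

include hover in
theorem comp_eq_of_over : j ≫ ptOf u = iH := by
  have h := hover H (𝟙 H) (pull (𝟙 H ≫ j) u) (pull_spec _ u)
  have h2 := ptOf_eq h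
  rw [ptOf_pull, Category.id_comp, Category.id_comp] at h2
  exact h2

include hG hj hover in
theorem isMonHom_iH : IsMonHom iH := by
  haveI := isMonHom_ptOf hG
  haveI : IsMonHom j := hj.2.1
  rw [← comp_eq_of_over hover]
  infer_instance

include hG hj hover in
theorem mono_iH : Mono iH := by
  haveI := isMonHom_iH hG hj hover
  refine ⟨fun {T} h h' e => ?_⟩
  refine mul_inv_eq_one.1 (hj.2.2 T (h * h'⁻¹) (pull ((h * h'⁻¹) ≫ j) u) (pull_spec _ u) ?_)
  have h2 := hover T (h * h'⁻¹) (pull ((h * h'⁻¹) ≫ j) u) (pull_spec _ u)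
  have e2 : (h * h'⁻¹) ≫ iH = 1 := by rw [MonObj.mul_comp, GrpObj.inv_comp, e, mul_inv_cancel]
  rw [e2] at h2
  exact h2

section Field

variable {k : Type u} [Field k] {A : Over (Spec (CommRingCat.of k))} [GrpObj A] [IsCommMonObj A] [IsProper A.hom]
  [GeometricallyIntegral A.hom] {L : A.left.Modules} {G : Over (Spec (CommRingCat.of k))} [GrpObj G]
  {u : thetaPts A L G}

/-- A theta group scheme over a field is of finite type. -/
theorem finiteType_of_isThetaGrpSch (hL : PicF.IsInvertible L) (hG : IsThetaGrpSch A L G u) :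
    LocallyOfFiniteType G.hom ∧ QuasiCompact G.hom := by
  obtain ⟨K, i, hK⟩ := Seesaw13.exists_isKL hL
  haveI : IsClosedImmersion i.left := hK.closed
  haveI : Mono ((Over.forget (Spec (CommRingCat.of k))).map i) := inferInstanceAs (Mono i.left)
  haveI : Mono i := (Over.forget (Spec (CommRingCat.of k))).mono_of_mono_map ‹_›
  obtain ⟨q, hq⟩ := exists_factor hL hK u
  obtain ⟨ha, hb⟩ := isAffineHom_and_locallyOfFiniteType (hzero_of_field A) hL hG i q hq (exists_local_pt hL hK)
  have e : G.hom = q.left ≫ i.left ≫ A.hom := by rw [Over.w i, Over.w q]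
  rw [e]
  exact ⟨inferInstance, inferInstance⟩

variable {H : Over (Spec (CommRingCat.of k))} [GrpObj H] {j : H ⟶ G}

/-- A level subgroup over a field is of finite type. -/
theorem finiteType_of_isLevelSubgrp (hL : PicF.IsInvertible L) (hG : IsThetaGrpSch A L G u)
    (hj : IsLevelSubgrp u j) : LocallyOfFiniteType H.hom ∧ NoetherianSpace H.left := by
  obtain ⟨h1, h2⟩ := finiteType_of_isThetaGrpSch hL hG
  haveI := h1; haveI := h2
  haveI : IsImmersion j.left := hj.1
  haveI : IsLocallyNoetherian G.left := LocallyOfFiniteType.isLocallyNoetherian G.hom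
  haveI : CompactSpace G.left := QuasiCompact.compactSpace_of_compactSpace G.hom
  haveI : IsNoetherian G.left := {}
  refine ⟨?_, j.left.isEmbedding.isInducing.noetherianSpace⟩
  rw [← Over.w j]
  infer_instance

end Field

end Groth.Agent.ThetaSch13
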