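import Groth.Agent.Lib.ThetaSch13.Pull

/-!
# Points of the theta group differing by units
-/

set_option autoImplicit false
set_option linter.style.haveILetI false
set_option linter.unusedSectionVars false
set_option backward.isDefEq.respectTransparency.types false

universe u

open CategoryTheory CategoryTheory.Limits MonoidalCategory CartesianMonoidalCategory MonObj AlgebraicGeometry Opposite

noncomputable section

namespace Groth.Agent.ThetaSch13

open ThetaGrp ThetaGrp19

variable {S : Scheme.{u}} {A : Over S} [GrpObj A] {L : A.left.Modules}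

theorem exists_scalPt {T : Over S} (r : (Γ(T.left, ⊤))ˣ) (β : thetaPts A L T) :
    ∃ γ : thetaPts A L T, γ.1.hom = scalar A L T r ≫ β.1.hom := by
  haveI : IsIso (scalar A L T (r : Γ(T.left, ⊤))) :=
    ⟨scalar A L T ((r⁻¹ : (Γ(T.left, ⊤))ˣ) : Γ(T.left, ⊤)),
      by rw [scalar_mul, Units.mul_inv, scalar_one], by rw [scalar_mul, Units.inv_mul, scalar_one]⟩
  obtain ⟨x, hx⟩ := β.2
  obtain ⟨γ, -, hγ⟩ := ThetaGrp19.exists_pt A L x (scalar A L T r ≫ β.1.hom) (by
      show 𝟙 _ ≫ β.1.hom.base = _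
      rw [Category.id_comp, hx])
    ((IsCart.of_isIso _).comp (IsCart.of_isIso β.1.hom))
  exact ⟨γ, hγ⟩

/-- A point multiplied by a unit. -/
def scalPt {T : Over S} (r : (Γ(T.left, ⊤))ˣ) (β : thetaPts A L T) : thetaPts A L T :=
  (exists_scalPt r β).choose

theorem scalPt_hom {T : Over S} (r : (Γ(T.left, ⊤))ˣ) (β : thetaPts A L T) :
    (scalPt r β).1.hom = scalar A L T r ≫ β.1.hom :=
  (exists_scalPt r β).choose_spec

theorem ptOf_scalPt {T : Over S} (r : (Γ(T.left, ⊤))ˣ) (β : thetaPts A L T) : ptOf (scalPt r β) = ptOf β :=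
  ptOf_eq (by
    show (scalPt r β).1.hom.base = _
    rw [scalPt_hom]
    show 𝟙 _ ≫ β.1.hom.base = _
    rw [Category.id_comp, isOverPt_ptOf β])

theorem pull_scalPt (hL : PicF.IsInvertible L) {T G : Over S} (g : T ⟶ G) (r : (Γ(G.left, ⊤))ˣ)
    (β : thetaPts A L G) :
    pull g (scalPt r β) = scalPt (Units.map g.left.appTop.hom.toMonoidHom r) (pull g β) := by
  refine (eq_pull ?_).symm
  have e : (pull g β).1.hom ≫ bcLift A L g = bcLift A L g ≫ β.1.hom := pull_spec g β
  have h := ThetaGrp19.comp_scalar hL (bcLift A L g) g (isCart_and_base_bcLift L g).2 (r : Γ(G.left, ⊤))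
  show (scalPt _ _).1.hom ≫ bcLift A L g = bcLift A L g ≫ (scalPt r β).1.hom
  rw [scalPt_hom, scalPt_hom, Category.assoc, e, reassoc_of% h]
  rfl

theorem scalPt_injective (hA : HZero A) (hL : PicF.IsInvertible L) {T : Over S} (β : thetaPts A L T)
    {r r' : (Γ(T.left, ⊤))ˣ} (h : scalPt r β = scalPt r' β) : r = r' := by
  have h' := congrArg (fun γ : thetaPts A L T => γ.1.hom) h
  rw [scalPt_hom, scalPt_hom] at h'
  exact Units.ext (scalar_injective hA hL ((cancel_mono β.1.hom).1 h'))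

theorem exists_scalPt_eq (hA : HZero A) (hL : PicF.IsInvertible L) {T : Over S} {β γ : thetaPts A L T}
    (h : ptOf γ = ptOf β) : ∃ r : (Γ(T.left, ⊤))ˣ, γ = scalPt r β := by
  obtain ⟨r, hr⟩ := exists_scalar_of_isOverPt hA hL (h ▸ isOverPt_ptOf β) (isOverPt_ptOf γ)
  obtain ⟨r', hr'⟩ := exists_scalar_of_isOverPt hA hL (isOverPt_ptOf γ) (h ▸ isOverPt_ptOf β)
  have h1 : scalar A L T r ≫ scalar A L T r' = scalar A L T 1 := by
    refine (cancel_mono γ.1.hom).1 ?_
    rw [scalar_one, Category.id_comp, Category.assoc, ← hr', ← hr]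
  have h2 : scalar A L T r' ≫ scalar A L T r = scalar A L T 1 := by
    refine (cancel_mono β.1.hom).1 ?_
    rw [scalar_one, Category.id_comp, Category.assoc, ← hr, ← hr']
  rw [scalar_mul] at h1 h2
  refine ⟨⟨r, r', scalar_injective hA hL h1, scalar_injective hA hL h2⟩, Subtype.ext (Iso.ext ?_)⟩
  rw [scalPt_hom]
  exact hr

end Groth.Agent.ThetaSch13
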