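import Groth.Agent.Lib.ThetaSch13.Scalar
import Groth.Agent.Lib.OverRep16.Glue
import Groth.Prelude.Def_GmPts

/-!
# Charts of the theta group scheme
-/

set_option autoImplicit false
set_option linter.style.haveILetI false
set_option linter.unusedSectionVars false
set_option backward.isDefEq.respectTransparency.types false

universe u

open CategoryTheory CategoryTheory.Limits MonoidalCategory CartesianMonoidalCategory MonObj AlgebraicGeometry Opposite

noncomputable section

namespace Groth.Agent.ThetaSch13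

open ThetaGrp ThetaGrp19

variable {S : Scheme.{u}} {A : Over S} [GrpObj A] {L : A.left.Modules}

/-- The universal point over a member with a chosen point. -/
def univPt {W : Over S} (β : thetaPts A L W) : thetaPts A L (W ⊗ Red.Gm S) :=
  scalPt (GmPts.unitOfPt (snd W (Red.Gm S))) (pull (fst W (Red.Gm S)) β)

theorem pull_univPt (hL : PicF.IsInvertible L) {W T : Over S} (β : thetaPts A L W) (h : T ⟶ W ⊗ Red.Gm S) :
    pull h (univPt β) =
      scalPt (GmPts.unitOfPt (h ≫ snd W (Red.Gm S))) (pull (h ≫ fst W (Red.Gm S)) β) := by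
  rw [univPt, pull_scalPt hL, pull_pull, GmPts.unitOfPt_comp]

theorem univPt_injective (hA : HZero A) (hL : PicF.IsInvertible L) {W T : Over S} {β : thetaPts A L W}
    [Mono (ptOf β)] {h h' : T ⟶ W ⊗ Red.Gm S} (e : pull h (univPt β) = pull h' (univPt β)) : h = h' := by
  rw [pull_univPt hL, pull_univPt hL] at e
  have h1 : h ≫ fst W (Red.Gm S) = h' ≫ fst W (Red.Gm S) := by
    have e' := congrArg ptOf e
    rw [ptOf_scalPt, ptOf_scalPt, ptOf_pull, ptOf_pull] at e'
    exact (cancel_mono (ptOf β)).1 e'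
  rw [← h1] at e
  exact CartesianMonoidalCategory.hom_ext _ _ h1
    ((GmPts.equiv T).injective (scalPt_injective hA hL _ e))

theorem exists_univPt_iff (hA : HZero A) (hL : PicF.IsInvertible L) {W T : Over S} (β : thetaPts A L W)
    (γ : thetaPts A L T) :
    (∃ h : T ⟶ W ⊗ Red.Gm S, pull h (univPt β) = γ) ↔ ∃ a : T ⟶ W, a ≫ ptOf β = ptOf γ := by
  constructor
  · rintro ⟨h, rfl⟩
    exact ⟨h ≫ fst W (Red.Gm S), by rw [pull_univPt hL, ptOf_scalPt, ptOf_pull]⟩
  · rintro ⟨a, ha⟩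
    obtain ⟨r, hr⟩ := exists_scalPt_eq hA hL (β := pull a β) (γ := γ) (by rw [ptOf_pull, ha])
    refine ⟨lift a (GmPts.ptOfUnit r), ?_⟩
    rw [pull_univPt hL, lift_fst, lift_snd, GmPts.unitOfPt_ptOfUnit, hr]

/-- Maps into an open piece of `K`. -/
theorem exists_piece_iff {K T : Over S} (U : K.left.Opens) (y : T ⟶ K) :
    (∀ z, y.left z ∈ U) ↔
      ∃ a : T ⟶ Over.mk (U.ι ≫ K.hom), a ≫ (Over.homMk U.ι rfl : Over.mk (U.ι ≫ K.hom) ⟶ K) = y := by
  constructor
  · intro h
    have hr : Set.range y.left ⊆ Set.range U.ι := by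
      rw [Scheme.Opens.range_ι]; rintro _ ⟨z, rfl⟩; exact h z
    refine ⟨Over.homMk (IsOpenImmersion.lift U.ι y.left hr) ?_, Over.OverMorphism.ext ?_⟩
    · show IsOpenImmersion.lift U.ι y.left hr ≫ U.ι ≫ K.hom = T.hom
      rw [IsOpenImmersion.lift_fac_assoc, Over.w y]
    · exact IsOpenImmersion.lift_fac _ _ _
  · rintro ⟨a, rfl⟩ z
    exact (a.left z).2

variable (hA : HZero A) (hL : PicF.IsInvertible L) {K : Over S} (i : K ⟶ A) [Mono i]
  (hfac : ∀ (T : Over S) (γ : thetaPts A L T), ∃ y : T ⟶ K, y ≫ i = ptOf γ)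
  (U : K.left.Opens) (β : thetaPts A L (Over.mk (U.ι ≫ K.hom)))
  (hβ : ptOf β = (Over.homMk U.ι rfl : Over.mk (U.ι ≫ K.hom) ⟶ K) ≫ i)

include hA hL hfac hβ in
theorem exists_locus {T : Over S} (γ : thetaPts A L T) :
    ∃ O : T.left.Opens, ∀ {T' : Over S} (g : T' ⟶ T),
      (∀ z, g.left z ∈ O) ↔ ∃ h : T' ⟶ Over.mk (U.ι ≫ K.hom) ⊗ Red.Gm S, pull h (univPt β) = pull g γ := by
  obtain ⟨y, hy⟩ := hfac T γ
  refine ⟨y.left ⁻¹ᵁ U, fun {T'} g => ?_⟩
  refine ((exists_piece_iff U (g ≫ y)).trans (exists_congr fun a => ?_)).trans (exists_univPt_iff hA hL β _).symm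
  rw [hβ, ptOf_pull, ← hy, ← Category.assoc g, ← Category.assoc a, cancel_mono]

/-- The chart of a chosen local point. -/
def chart : OverRep16.Chart (thetaSet A L) where
  U := Over.mk (U.ι ≫ K.hom) ⊗ Red.Gm S
  Z := univPt β
  eq_of_map_eq h h' e := by
    haveI : Mono (Over.homMk U.ι rfl : Over.mk (U.ι ≫ K.hom) ⟶ K) :=
      haveI : Mono ((Over.forget S).map (Over.homMk U.ι rfl : Over.mk (U.ι ≫ K.hom) ⟶ K)) :=
        inferInstanceAs (Mono U.ι)
      (Over.forget S).mono_of_mono_map ‹_›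
    haveI : Mono (ptOf β) := by rw [hβ]; exact mono_comp _ _
    exact univPt_injective hA hL ((thetaSet_map h _).symm.trans (e.trans (thetaSet_map h' _)))
  exists_locus T γ := by
    obtain ⟨O, hO⟩ := exists_locus hA hL i hfac U β hβ γ
    refine ⟨O, fun {T'} g => (hO g).trans (exists_congr fun h => ?_)⟩
    rw [thetaSet_map, thetaSet_map]
    exact Iff.rfl

end Groth.Agent.ThetaSch13
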