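import Groth.Agent.Lib.ThetaSch13.Piece

/-!
# Compatible points give compatible morphisms of modules
-/

set_option autoImplicit false
set_option linter.style.haveILetI false
set_option linter.unusedSectionVars false
set_option backward.isDefEq.respectTransparency.types false

universe u

open CategoryTheory CategoryTheory.Limits MonoidalCategory CartesianMonoidalCategory MonObj AlgebraicGeometry

noncomputable section

namespace Groth.Agent.ThetaSch13

open ThetaGrp ThetaGrp19 ThetaDesc13

variable {S : Scheme.{u}} {A : Over S} [GrpObj A] {L : A.left.Modules}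

theorem pieceMap_compat {T : Over S} {I : Type u} (Tk : I → Over S) (p : ∀ i, Tk i ⟶ T)
    (β : ∀ i, thetaPts A L (Tk i))
    (hβ : ∀ (i j : I) (T' : Over S) (a : T' ⟶ Tk i) (b : T' ⟶ Tk j), a ≫ p i = b ≫ p j →
      pull a (β i) = pull b (β j))
    (i j : I) (Z : Scheme.{u}) (a : Z ⟶ (A ⊗ Tk i).left) (a' : Z ⟶ (A ⊗ Tk j).left)
    (h : a' ≫ (A ◁ p j).left = a ≫ (A ◁ p i).left) :
    onPiece (f := fun t => (A ◁ p t).left) a rfl (pieceMap L (p i) (β i)) =
      onPiece (f := fun t => (A ◁ p t).left) a' h (pieceMap L (p j) (β j)) := by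
  let pi := p i
  let pj := p j
  let T' : Over S := Over.mk (pullback.fst pi.left pj.left ≫ (Tk i).hom)
  let π : T' ⟶ Tk i := Over.homMk (pullback.fst pi.left pj.left) rfl
  let π' : T' ⟶ Tk j := Over.homMk (pullback.snd pi.left pj.left) (by
    show pullback.snd pi.left pj.left ≫ (Tk j).hom = pullback.fst pi.left pj.left ≫ (Tk i).hom
    rw [← Over.w pi, ← Over.w pj, ← Category.assoc, ← Category.assoc, pullback.condition])
  have hπ : π ≫ pi = π' ≫ pj := Over.OverMorphism.ext pullback.condition
  let w : Z ⟶ T'.left := pullback.lift (a ≫ (snd A (Tk i)).left) (a' ≫ (snd A (Tk j)).left) (by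
    rw [Category.assoc, Category.assoc, ← (isPullback_whisker pi).w, ← (isPullback_whisker pj).w,
      reassoc_of% h])
  let r : Z ⟶ (A ⊗ T').left := (isPullback_whisker π).lift a w (pullback.lift_fst _ _ _).symm
  have hr : r ≫ (A ◁ π).left = a := IsPullback.lift_fst _ _ _ _
  have hr2 : r ≫ (snd A T').left = w := IsPullback.lift_snd _ _ _ _
  have hr' : r ≫ (A ◁ π').left = a' := by
    refine (isPullback_whisker pj).hom_ext ?_ ?_
    · rw [h, ← hr, Category.assoc, Category.assoc, ← Over.comp_left, ← Over.comp_left,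
        ← MonoidalCategory.whiskerLeft_comp, ← MonoidalCategory.whiskerLeft_comp, hπ]
    · rw [Category.assoc, (isPullback_whisker π').w, reassoc_of% hr2]
      exact pullback.lift_snd _ _ _
  let ei := toPiece (f := fun t => (A ◁ p t).left) a rfl (tgt A L T) ≫ pieceHom L (p i)
  let ej := toPiece (f := fun t => (A ◁ p t).left) a' h (tgt A L T) ≫ pieceHom L (p j)
  have hei : ei.base = a := Category.comp_id _
  have hej : ej.base = a' := Category.comp_id _
  obtain ⟨e, ⟨heb, he⟩, -⟩ := ThetaGrp19.existsUnique_lift (isCart_bcLift A L π) ei r (by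
    rw [hei]; exact hr)
  have he' : e ≫ bcLift A L π' = ej := by
    refine hom_ext_of_cart (isCart_bcLift A L pj) ?_ ?_
    · show e.base ≫ (A ◁ π').left = ej.base
      rw [heb, hej, hr']
    · rw [Category.assoc, bcLift_comp, ← hπ, ← bcLift_comp, ← Category.assoc, he]
      simp only [ei, ej, Category.assoc, pi, pj, pieceHom_comp]
      exact (toPiece_taut (f := fun t => (A ◁ p t).left) a rfl).trans
        (toPiece_taut (f := fun t => (A ◁ p t).left) a' h).symm
  have hb : pull π (β i) = pull π' (β j) := hβ _ _ T' π π' hπ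
  have e₁ : (pull π (β i)).1.hom ≫ bcLift A L π = bcLift A L π ≫ (β i).1.hom := pull_spec π _
  have e₂ : (pull π' (β j)).1.hom ≫ bcLift A L π' = bcLift A L π' ≫ (β j).1.hom := pull_spec π' _
  calc _ = ei ≫ (β i).1.hom ≫ bcLift A L pi := (Category.assoc _ _ _).symm
    _ = e ≫ (pull π (β i)).1.hom ≫ bcLift A L (π ≫ pi) := by
      rw [← bcLift_comp, reassoc_of% e₁, reassoc_of% he]
    _ = e ≫ (pull π' (β j)).1.hom ≫ bcLift A L (π' ≫ pj) := by rw [hb, hπ]
    _ = ej ≫ (β j).1.hom ≫ bcLift A L pj := by rw [← bcLift_comp, reassoc_of% e₂, reassoc_of% he']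
    _ = _ := Category.assoc _ _ _

end Groth.Agent.ThetaSch13
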