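import Groth.Agent.Lib.ThetaSch13.Compat
import Groth.Agent.Lib.FpqcFun14.Stalk

/-!
# Points of the theta group glue along open coverings
-/

set_option autoImplicit false
set_option linter.style.haveILetI false
set_option linter.unusedSectionVars false
set_option backward.isDefEq.respectTransparency.types false

universe u

open CategoryTheory CategoryTheory.Limits MonoidalCategory CartesianMonoidalCategory MonObj AlgebraicGeometry
open TopologicalSpace

noncomputable section

namespace Groth.Agent.ThetaSch13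

open ThetaGrp ThetaGrp19 ThetaDesc13

variable {S : Scheme.{u}} {A : Over S} [GrpObj A] {L : A.left.Modules}
  {T : Over S} {I : Type u} {Tk : I → Over S} (p : ∀ i, Tk i ⟶ T) [∀ i, IsOpenImmersion (p i).left]

include p

theorem isOpenImmersion_whisker (k : I) : IsOpenImmersion (A ◁ p k).left :=
  MorphismProperty.of_isPullback (P := @IsOpenImmersion) (isPullback_whisker (p k)).flip inferInstance

theorem exists_mem_range (hcovT : ∀ t : T.left, ∃ i, t ∈ Set.range (p i).left) (y : (A ⊗ T).left) :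
    ∃ i, y ∈ Set.range (A ◁ p i).left := by
  obtain ⟨t, w, hw⟩ := hcovT ((snd A T).left y)
  let sq := isPullback_whisker (A := A) (p t)
  obtain ⟨v, hv, -⟩ := Scheme.Pullback.exists_preimage_pullback (f := (snd A T).left)
    (g := (p t).left) y w hw.symm
  exact ⟨t, sq.isoPullback.inv v, by
    rw [← Scheme.Hom.comp_apply]
    exact (congrArg (fun m : pullback _ _ ⟶ (A ⊗ T).left => m v) sq.isoPullback_inv_fst).trans hv⟩

theorem mem_fpqc (hcovT : ∀ t : T.left, ∃ i, t ∈ Set.range (p i).left) :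
    Presieve.ofArrows (fun t => (A ⊗ Tk t).left) (fun t => (A ◁ p t).left) ∈
      Scheme.fpqcPrecoverage (A ⊗ T).left := by
  refine Scheme.zariskiPrecoverage_le_fpqcPrecoverage _ ?_
  rw [Scheme.zariskiPrecoverage, Scheme.ofArrows_mem_precoverage_iff]
  exact ⟨exists_mem_range p hcovT, fun t => isOpenImmersion_whisker p t⟩

theorem isIso_of_pieces (hcovT : ∀ t : T.left, ∃ i, t ∈ Set.range (p i).left)
    (β : ∀ i, thetaPts A L (Tk i)) {b : (A ⊗ T).left ⟶ (A ⊗ T).left}
    (φ : tgt A L T ⟶ (Scheme.Modules.pullback b).obj (tgt A L T))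
    (hφ : ∀ i, taut (A ◁ p i).left (tgt A L T) ≫ mk b φ = pieceMap L (p i) (β i)) : IsIso φ := by
  refine FpqcFun14.isIso_of_cover _ fun y => ?_
  obtain ⟨t, ht⟩ := exists_mem_range p hcovT y
  haveI := isOpenImmersion_whisker (A := A) p t
  refine ⟨_, (A ◁ p t).left, inferInstanceAs (Flat (A ◁ p t).left), ht, ?_⟩
  have hcc : IsCart (pieceMap L (p t) (β t)) := isCart_pieceMap _ _
  rw [← hφ t, mk_comp_mk (A ◁ p t).left _ _ φ rfl] at hcc
  have h2 := isIso_of_isCart_mk hcc
  rw [Category.id_comp] at h2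
  exact @IsIso.of_isIso_comp_right _ _ _ _ _ _ _ inferInstance h2

/-- Points glue along a covering family indexed by a small type. -/
theorem existsUnique_of_family (hL : PicF.IsInvertible L) (hcovT : ∀ t : T.left, ∃ i, t ∈ Set.range (p i).left)
    (β : ∀ i, thetaPts A L (Tk i))
    (hβ : ∀ (i j : I) (T' : Over S) (a : T' ⟶ Tk i) (b : T' ⟶ Tk j), a ≫ p i = b ≫ p j →
      pull a (β i) = pull b (β j))
    (z : T ⟶ A) (hz : ∀ i, p i ≫ z = ptOf (β i)) :
    ∃! γ : thetaPts A L T, ∀ i, pull (p i) γ = β i := by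
  haveI : Coh.IsQCoh (tgt A L T) := Twist.isQCoh_of_isInvertible (PicLoc.isInvertible_pullback _ hL)
  obtain ⟨φ, hφ, hφu⟩ := existsUnique_glue (mem_fpqc p hcovT) (transl A z).left
    (fun t => pieceMap L (p t) (β t)) (fun t => pieceMap_base _ _ (hz t)) (pieceMap_compat Tk p β hβ)
  haveI : IsIso φ := isIso_of_pieces p hcovT β φ hφ
  obtain ⟨γ, hγz, hγ⟩ := exists_pt A L z (mk (transl A z).left φ) rfl (isCart_mk _ φ)
  refine ⟨γ, fun t => ?_, fun γ' h' => ?_⟩
  · refine (eq_pull ?_).symm
    have h1 : taut (A ◁ p t).left (tgt A L T) ≫ γ.1.hom = pieceMap L (p t) (β t) := by rw [hγ]; exact hφ t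
    rw [← pieceHom_comp, Category.assoc] at h1
    haveI := isIso_pieceHom L (p t)
    exact ((cancel_epi (pieceHom L (p t))).1 h1).symm
  · have hz' : ptOf γ' = z := Over.OverMorphism.ext (by
      refine Scheme.Cover.hom_ext (Scheme.openCoverOfIsOpenCover T.left
        (fun t => (p t).left.opensRange) (top_le_iff.1 fun t _ => Opens.mem_iSup.2 (hcovT t))) _ _ fun t => ?_
      refine (cancel_epi ((p t).left.isoOpensRange).hom).1 ?_
      show (p t).left.isoOpensRange.hom ≫ (p t).left.opensRange.ι ≫ (ptOf γ').left =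
        (p t).left.isoOpensRange.hom ≫ (p t).left.opensRange.ι ≫ z.left
      rw [Scheme.Hom.isoOpensRange_hom_ι_assoc, Scheme.Hom.isoOpensRange_hom_ι_assoc]
      exact congrArg CommaMorphism.left ((ptOf_pull _ γ').symm.trans ((congrArg ptOf (h' t)).trans (hz t).symm)))
    obtain ⟨ψ, hψ⟩ := exists_mk γ'.1.hom (g := (transl A z).left) (by rw [isOverPt_ptOf γ', hz'])
    refine Subtype.ext (Iso.ext ?_)
    rw [← hψ, hγ, hφu ψ fun t => ?_]
    rw [hψ, ← pieceHom_comp, Category.assoc]
    have := pull_spec (p t) γ'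
    rw [h' t] at this
    exact congrArg (pieceHom L (p t) ≫ ·) this.symm

end Groth.Agent.ThetaSch13
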