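import Groth.Agent.Lib.ThetaDesc13.Mk
import Groth.Agent.Lib.QcohDesc12.Morph

/-!
# Morphisms of modules over a fixed morphism of schemes glue along coverings
-/

set_option autoImplicit false
set_option backward.isDefEq.respectTransparency false
set_option backward.isDefEq.respectTransparency.types false

universe u

open CategoryTheory CategoryTheory.Limits AlgebraicGeometry CategoryTheory.Pseudofunctor

namespace Groth.Agent.ThetaSch13

open ThetaGrp ThetaDesc13 ModLimH13

variable {ι : Type u} {X Y : Scheme.{u}} {Xs : ι → Scheme.{u}} {f : ∀ i, Xs i ⟶ X}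
  {P : X.Modules} {Q : Y.Modules}

/-- The inverse image of a module. As a definition (not a projection) it lets the kernel compare the
morphisms before unfolding the functor. -/
@[reducible] noncomputable def pb {Z : Scheme.{u}} (g : Z ⟶ X) (P : X.Modules) : Z.Modules := (Scheme.Modules.pullback g).obj P

/-- The tautological morphism over a morphism of schemes. -/
@[reducible] noncomputable def taut {Z : Scheme.{u}} (g : Z ⟶ X) (P : X.Modules) : ob (pb g P) ⟶ ob P :=
  mk g (𝟙 ((Scheme.Modules.pullback g).obj P))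

/-- Passing to a member of the covering. -/
@[reducible] noncomputable def toPiece {Z : Scheme.{u}} {q : Z ⟶ X} {i : ι} (a : Z ⟶ Xs i) (ha : a ≫ f i = q)
    (P : X.Modules) : ob (pb q P) ⟶ ob (pb (f i) P) :=
  mk a ((cmp a (f i) ha).inv.app P)

theorem toPiece_taut {Z : Scheme.{u}} {q : Z ⟶ X} {i : ι} (a : Z ⟶ Xs i) (ha : a ≫ f i = q) :
    toPiece a ha P ≫ taut (f i) P = taut q P := by
  rw [mk_comp_mk a _ (f i) _ ha, CategoryTheory.Functor.map_id, Category.id_comp, Iso.inv_hom_id_app]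

/-- A morphism seen on a smaller member. A definition, so that the kernel compares arguments first. -/
@[reducible] noncomputable def onPiece {Z : Scheme.{u}} {q : Z ⟶ X} {i : ι} (a : Z ⟶ Xs i) (ha : a ≫ f i = q)
    {P : X.Modules} {Q : Y.Modules} (c : ob (pb (f i) P) ⟶ ob Q) : ob (pb q P) ⟶ ob Q :=
  toPiece a ha P ≫ c

theorem taut_mk_injective {Z : Scheme.{u}} {q : Z ⟶ X} {b : X ⟶ Y} {R : Z.Modules}
    {φ φ' : R ⟶ (Scheme.Modules.pullback q).obj ((Scheme.Modules.pullback b).obj Q)}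
    (h : mk q φ ≫ taut b Q = mk q φ' ≫ taut b Q) : φ = φ' := by
  rw [mk_comp_mk q φ b _ rfl, mk_comp_mk q φ' b _ rfl, CategoryTheory.Functor.map_id, Category.id_comp] at h
  exact (cancel_mono ((cmp q b rfl).hom.app Q)).1 (mk_inj h)

variable (hf : Presieve.ofArrows Xs f ∈ Scheme.fpqcPrecoverage X) [Coh.IsQCoh P] [Coh.IsQCoh Q]

theorem comm_of (P N : X.Modules)
    (η : ∀ i, (Scheme.Modules.pullback (f i)).obj P ⟶ (Scheme.Modules.pullback (f i)).obj N)
    {Z : Scheme.{u}} (q : Z ⟶ X) {i j : ι} (a : Z ⟶ Xs i) (a' : Z ⟶ Xs j) (ha : a ≫ f i = q) (ha' : a' ≫ f j = q)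
    (h1 : (cmp a (f i) ha).inv.app P ≫ (Scheme.Modules.pullback a).map (η i) ≫ (cmp a (f i) ha).hom.app N =
      (cmp a' (f j) ha').inv.app P ≫ (Scheme.Modules.pullback a').map (η j) ≫ (cmp a' (f j) ha').hom.app N) :
    (Scheme.Modules.pullback a).map (η i) ≫ (cmp a (f i) ha).hom.app N ≫ (cmp a' (f j) ha').inv.app N =
      ((cmp a (f i) ha).hom.app P ≫ (cmp a' (f j) ha').inv.app P) ≫ (Scheme.Modules.pullback a').map (η j) := by
  refine (cancel_mono ((cmp a' (f j) ha').hom.app N)).1 ((cancel_epi ((cmp a (f i) ha).inv.app P)).1 ?_)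
  simp only [Category.assoc, Iso.inv_hom_id_app, Category.comp_id, h1, Iso.inv_hom_id_app_assoc]

theorem map_homA {P N : X.Modules} (φ : P ⟶ N) (i : ι) :
    DescentData.Hom.hom ((modPF.{u}.toDescentData f).map φ) i = (modPF.{u}.map (f i).op.toLoc).toFunctor.map φ := rfl

theorem map_homB {P N : X.Modules} (φ : P ⟶ N) (i : ι) :
    (modPF.{u}.map (f i).op.toLoc).toFunctor.map φ = (Scheme.Modules.pullback (f i)).map φ := rfl

theorem map_hom {P N : X.Modules} (φ : P ⟶ N) (i : ι) :
    DescentData.Hom.hom ((modPF.{u}.toDescentData f).map φ) i = (Scheme.Modules.pullback (f i)).map φ :=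
  (map_homA φ i).trans (map_homB φ i)

/-- A morphism of descent data. -/
theorem exists_descHom (D D' : modPF.{u}.DescentData f) (η : ∀ i, QcohDesc12.ob D i ⟶ QcohDesc12.ob D' i)
    (h : ∀ (Z : Scheme.{u}) (q : Z ⟶ X) (i j : ι) (a : Z ⟶ Xs i) (a' : Z ⟶ Xs j) (ha : a ≫ f i = q)
      (ha' : a' ≫ f j = q),
      (Scheme.Modules.pullback a).map (η i) ≫ QcohDesc12.hm D' q a a' ha ha' =
        QcohDesc12.hm D q a a' ha ha' ≫ (Scheme.Modules.pullback a').map (η j)) :
    ∃ H : D ⟶ D', ∀ i, DescentData.Hom.hom H i = η i :=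
  ⟨{ hom := η, comm := fun Z q i j a a' ha ha' => h Z q i j a a' ha ha' }, fun _ => rfl⟩

include hf in
/-- Morphisms over a fixed morphism glue uniquely along coverings. -/
theorem existsUnique_glue (b : X ⟶ Y) (c : ∀ i, ob (pb (f i) P) ⟶ ob Q)
    (hb : ∀ i, (c i).base = f i ≫ b)
    (hc : ∀ (i j : ι) (Z : Scheme.{u}) (a : Z ⟶ Xs i) (a' : Z ⟶ Xs j) (h : a' ≫ f j = a ≫ f i),
      onPiece a rfl (c i) = onPiece a' h (c j)) :
    ∃! φ : P ⟶ (Scheme.Modules.pullback b).obj Q, ∀ i, taut (f i) P ≫ mk b φ = c i := by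
  haveI : Coh.IsQCoh ((Scheme.Modules.pullback b).obj Q) := M1.isQCoh_pullback b inferInstance
  choose ψ hψ using fun i => exists_mk (M := (Scheme.Modules.pullback (f i)).obj P) (c i) (hb i)
  let N := (Scheme.Modules.pullback b).obj Q
  let η : ∀ i, (Scheme.Modules.pullback (f i)).obj P ⟶ (Scheme.Modules.pullback (f i)).obj N :=
    fun i => ψ i ≫ (cmp (f i) b rfl).inv.app Q
  have hη : ∀ i, mk (f i) (η i) ≫ taut b Q = c i := fun i => by
    rw [mk_comp_mk (f i) (η i) b _ rfl, CategoryTheory.Functor.map_id, Category.id_comp, ← hψ i]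
    congr 1
    simp [η]
  have key : ∀ (φ : P ⟶ N) (i : ι),
      (Scheme.Modules.pullback (f i)).map φ = η i ↔ taut (f i) P ≫ mk b φ = c i := by
    intro φ i
    have e : taut (f i) P ≫ mk b φ = mk (f i) ((Scheme.Modules.pullback (f i)).map φ) ≫ taut b Q := by
      rw [mk_comp_mk (f i) _ b _ rfl, mk_comp_mk (f i) _ b _ rfl, CategoryTheory.Functor.map_id, Category.id_comp,
        Category.id_comp]
    refine ⟨fun h => by rw [e, h, hη], fun h => ?_⟩
    rw [e, ← hη i] at h
    exact taut_mk_injective h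
  let ηi : ∀ i, QcohDesc12.ob (QcohDesc12.canDatum f P) i ⟶ QcohDesc12.ob (QcohDesc12.canDatum f N) i :=
    fun i => η i
  have h2 : ∀ (Z : Scheme.{u}) (q : Z ⟶ X) (i j : ι) (a : Z ⟶ Xs i) (a' : Z ⟶ Xs j) (ha : a ≫ f i = q)
      (ha' : a' ≫ f j = q),
      (Scheme.Modules.pullback a).map (ηi i) ≫ QcohDesc12.hm (QcohDesc12.canDatum f N) q a a' ha ha' =
        QcohDesc12.hm (QcohDesc12.canDatum f P) q a a' ha ha' ≫ (Scheme.Modules.pullback a').map (ηi j) := by
    intro Z q i j a a' ha ha'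
    rw [QcohDesc12.hm_canDatum, QcohDesc12.hm_canDatum]
    refine comm_of P N η q a a' ha ha' ?_
    refine taut_mk_injective (b := b) (Q := Q) ?_
    rw [← mk_comp_mk a _ (f i) _ ha, ← mk_comp_mk a' _ (f j) _ ha', Category.assoc, Category.assoc, hη, hη]
    subst ha
    exact hc i j Z a a' ha'
  obtain ⟨H, hH⟩ := exists_descHom (QcohDesc12.canDatum f P) (QcohDesc12.canDatum f N) ηi h2
  obtain ⟨φ, hφ⟩ := (QcohDesc12.map_toDescentData_bijective hf P N).2 H
  have hφi : ∀ i, (Scheme.Modules.pullback (f i)).map φ = η i := fun i =>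
    (map_hom φ i).symm.trans ((congrArg (fun K => DescentData.Hom.hom K i) hφ).trans (hH i))
  refine ⟨φ, fun i => (key φ i).1 (hφi i), fun φ' h' => ?_⟩
  refine QcohDesc12.map_toDescentData_injective hf P N (DescentData.hom_ext fun i => ?_)
  exact (map_hom φ' i).trans (((key φ' i).2 (h' i)).trans ((hφi i).symm.trans (map_hom φ i).symm))

end Groth.Agent.ThetaSch13
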