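import Groth.Agent.Lib.ThetaDesc13.Pts
import Groth.Agent.Lib.ThetaGrp19.AV
import Mathlib.Algebra.Category.Grp.Basic

/-!
# Base change of points of the theta group
-/

set_option autoImplicit false
set_option linter.style.haveILetI false
set_option linter.unusedSectionVars false
set_option backward.isDefEq.respectTransparency.types false

universe u

open CategoryTheory CategoryTheory.Limits MonoidalCategory CartesianMonoidalCategory MonObj AlgebraicGeometry Opposite
open TopologicalSpace

noncomputable section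

namespace Groth.Agent.ThetaSch13

open ThetaGrp ThetaGrp19 ThetaDesc13

variable {S : Scheme.{u}} {A : Over S}

theorem isPullback_whisker {T G : Over S} (g : T ⟶ G) :
    IsPullback (A ◁ g).left (snd A T).left (snd A G).left g.left := by
  refine IsPullback.of_right ?_ (by rw [← Over.comp_left, whiskerLeft_snd, Over.comp_left])
    (IsPullback.of_hasPullback A.hom G.hom : IsPullback (fst A G).left (snd A G).left A.hom G.hom)
  have h : (A ◁ g).left ≫ (fst A G).left = (fst A T).left := by rw [← Over.comp_left, whiskerLeft_fst]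
  have h0 : IsPullback (fst A T).left (snd A T).left A.hom T.hom := IsPullback.of_hasPullback A.hom T.hom
  rw [← h, ← Over.w g] at h0
  exact h0

variable [GrpObj A] {L : A.left.Modules}

theorem bcLift_id (T : Over S) : bcLift A L (𝟙 T) = 𝟙 _ :=
  hom_ext_of_cart (isCart_proj A L T)
    (by show (A ◁ 𝟙 T).left = 𝟙 _; rw [MonoidalCategory.whiskerLeft_id]; rfl)
    (by rw [bcLift_proj, Category.id_comp])

/-- The point of `A` under a point of the theta group. -/
def ptOf {T : Over S} (β : thetaPts A L T) : T ⟶ A := β.2.choose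

theorem isOverPt_ptOf {T : Over S} (β : thetaPts A L T) : IsOverPt β (ptOf β) := β.2.choose_spec

theorem ptOf_eq {T : Over S} {β : thetaPts A L T} {x : T ⟶ A} (h : IsOverPt β x) : ptOf β = x :=
  eq_of_transl_eq (Over.OverMorphism.ext ((isOverPt_ptOf β).symm.trans h))

theorem comp_eq_of_isBaseChange {T G : Over S} {g : T ⟶ G} {β' : thetaPts A L T} {β : thetaPts A L G}
    (h : IsBaseChange β' g β) : g ≫ ptOf β = ptOf β' := by
  refine comp_of_transl_eq g (Over.OverMorphism.ext ?_)
  have hb : β'.1.hom.base ≫ (A ◁ g).left = (A ◁ g).left ≫ β.1.hom.base :=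
    congrArg (fun m : thetaObj A L T ⟶ thetaObj A L G => m.base) h
  rw [isOverPt_ptOf β', isOverPt_ptOf β] at hb
  exact hb

theorem isBaseChange_unique {T G : Over S} {g : T ⟶ G} {β₁ β₂ : thetaPts A L T} {β : thetaPts A L G}
    (h₁ : IsBaseChange β₁ g β) (h₂ : IsBaseChange β₂ g β) : β₁ = β₂ := by
  refine Subtype.ext (Iso.ext (hom_ext_of_cart (isCart_bcLift A L g) ?_ (h₁.trans h₂.symm)))
  rw [isOverPt_ptOf β₁, isOverPt_ptOf β₂, ← comp_eq_of_isBaseChange h₁, ← comp_eq_of_isBaseChange h₂]

theorem existsUnique_bc {T G : Over S} (g : T ⟶ G) (β : thetaPts A L G) :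
    ∃! β' : thetaPts A L T, IsBaseChange β' g β := by
  obtain ⟨β', -, h⟩ := exists_restrictPt g β (isOverPt_ptOf β)
  exact ⟨β', h, fun γ hγ => isBaseChange_unique hγ h⟩

/-- Base change of points of the theta group. -/
def pull {T G : Over S} (g : T ⟶ G) (β : thetaPts A L G) : thetaPts A L T := (existsUnique_bc g β).choose

theorem pull_spec {T G : Over S} (g : T ⟶ G) (β : thetaPts A L G) : IsBaseChange (pull g β) g β :=
  (existsUnique_bc g β).choose_spec.1

theorem eq_pull {T G : Over S} {g : T ⟶ G} {β : thetaPts A L G} {β' : thetaPts A L T}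
    (h : IsBaseChange β' g β) : β' = pull g β :=
  isBaseChange_unique h (pull_spec g β)

theorem ptOf_pull {T G : Over S} (g : T ⟶ G) (β : thetaPts A L G) : ptOf (pull g β) = g ≫ ptOf β :=
  (comp_eq_of_isBaseChange (pull_spec g β)).symm

theorem pull_id {T : Over S} (β : thetaPts A L T) : pull (𝟙 T) β = β :=
  (eq_pull (by unfold ThetaGrp.IsBaseChange; rw [bcLift_id, Category.comp_id, Category.id_comp])).symm

theorem pull_pull {T T' T'' : Over S} (g : T ⟶ T') (h : T' ⟶ T'') (β : thetaPts A L T'') :
    pull g (pull h β) = pull (g ≫ h) β :=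
  eq_pull (by
    have e₁ := pull_spec g (pull h β)
    have e₂ := pull_spec h β
    unfold ThetaGrp.IsBaseChange at e₁ e₂ ⊢
    rw [← bcLift_comp, reassoc_of% e₁, e₂, Category.assoc])

theorem pull_mul {T G : Over S} (g : T ⟶ G) (β γ : thetaPts A L G) :
    pull g (β * γ) = pull g β * pull g γ :=
  (eq_pull (by
    have e₁ := pull_spec g β
    have e₂ := pull_spec g γ
    unfold ThetaGrp.IsBaseChange at e₁ e₂ ⊢
    show ((pull g γ).1.hom ≫ (pull g β).1.hom) ≫ bcLift A L g = bcLift A L g ≫ γ.1.hom ≫ β.1.hom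
    rw [Category.assoc, e₁, reassoc_of% e₂])).symm

variable (A L) in
/-- The theta group functor. -/
def thetaFun : (Over S)ᵒᵖ ⥤ GrpCat.{u} where
  obj T := GrpCat.of (thetaPts A L T.unop)
  map g := GrpCat.ofHom (MonoidHom.mk' (pull g.unop) (pull_mul g.unop))
  map_id T := GrpCat.hom_ext (MonoidHom.ext fun β => pull_id β)
  map_comp g h := GrpCat.hom_ext (MonoidHom.ext fun β => (pull_pull h.unop g.unop β).symm)

variable (A L) in
/-- The underlying functor of sets. -/
abbrev thetaSet : (Over S)ᵒᵖ ⥤ Type u := thetaFun A L ⋙ forget GrpCat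

theorem thetaSet_map {T G : Over S} (g : T ⟶ G) (β : thetaPts A L G) :
    (thetaSet A L).map g.op β = pull g β := rfl

end Groth.Agent.ThetaSch13
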