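import Groth.Agent.Lib.ThetaSch13.Glue
import Groth.Agent.Lib.ThetaSch13.Pull

/-!
# A point of the theta group seen on a member of a covering
-/

set_option autoImplicit false
set_option linter.style.haveILetI false
set_option linter.unusedSectionVars false
set_option backward.isDefEq.respectTransparency.types false

universe u

open CategoryTheory CategoryTheory.Limits MonoidalCategory CartesianMonoidalCategory MonObj AlgebraicGeometry
open CategoryTheory.Pseudofunctor

noncomputable section

namespace Groth.Agent.ThetaSch13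

open ThetaGrp ThetaGrp19 ThetaDesc13

section

variable {X Y : Scheme.{u}}

theorem vert_comp_vert {M M' M'' : X.Modules} (φ : M ⟶ M') (ψ : M' ⟶ M'') :
    vert φ ≫ vert ψ = vert (φ ≫ ψ) := by
  refine (vert_comp_mk φ (𝟙 X) (ψ ≫ (𝟙 (ob M'') : ob M'' ⟶ ob M'').fiber)).trans ?_
  rw [← Category.assoc]
  rfl

theorem vert_id (M : X.Modules) : vert (𝟙 M) = 𝟙 (ob M) :=
  CoGrothendieck.Hom.ext _ _ rfl (by simp [vert]; exact Category.id_comp _)

theorem isIso_vert {M M' : X.Modules} (φ : M ⟶ M') [IsIso φ] : IsIso (vert φ) :=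
  ⟨vert (inv φ), by rw [vert_comp_vert, IsIso.hom_inv_id, vert_id],
    by rw [vert_comp_vert, IsIso.inv_hom_id, vert_id]⟩

theorem isCart_vert {M M' : X.Modules} (φ : M ⟶ M') [IsIso φ] : IsCart (vert φ) := by
  haveI := isIso_vert φ
  exact IsCart.of_isIso _

theorem isIso_of_isCart_mk {M : X.Modules} {N : Y.Modules} {g : X ⟶ Y}
    {φ : M ⟶ (Scheme.Modules.pullback g).obj N} (h : IsCart (mk g φ)) : IsIso φ := h

end

variable {S : Scheme.{u}} {A : Over S} [GrpObj A] (L : A.left.Modules)

/-- The module `L` on `A ⊗ G`. -/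
abbrev tgt (A : Over S) (L : A.left.Modules) (G : Over S) : (A ⊗ G).left.Modules :=
  (Scheme.Modules.pullback (fst A G).left).obj L

/-- The restriction of `L_G` to `A ⊗ T` is `L_T`. -/
def pieceHom {T G : Over S} (g : T ⟶ G) :
    ob (pb (A ◁ g).left (tgt A L G)) ⟶ thetaObj A L T :=
  vert (@inv _ _ _ _ (bcLift A L g).fiber (isCart_bcLift A L g))

theorem pieceHom_comp {T G : Over S} (g : T ⟶ G) :
    pieceHom L g ≫ bcLift A L g = taut (A ◁ g).left (tgt A L G) :=
  (vert_comp_mk _ (A ◁ g).left (bcLift A L g).fiber).trans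
    (congrArg (mk _) (@IsIso.inv_hom_id _ _ _ _ (bcLift A L g).fiber (isCart_bcLift A L g)))

theorem isIso_pieceHom {T G : Over S} (g : T ⟶ G) : IsIso (pieceHom L g) :=
  haveI := isCart_bcLift A L g
  isIso_vert _

/-- The point `β` on the member `g`. -/
def pieceMap {T G : Over S} (g : T ⟶ G) (β : thetaPts A L T) :
    ob (pb (A ◁ g).left (tgt A L G)) ⟶ ob (tgt A L G) :=
  pieceHom L g ≫ β.1.hom ≫ bcLift A L g

variable {L}

theorem pieceMap_base {T G : Over S} (g : T ⟶ G) (β : thetaPts A L T) {z : G ⟶ A}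
    (hz : g ≫ z = ptOf β) : (pieceMap L g β).base = (A ◁ g).left ≫ (transl A z).left := by
  show 𝟙 _ ≫ β.1.hom.base ≫ (A ◁ g).left = _
  rw [Category.id_comp, isOverPt_ptOf β, ← Over.comp_left, comp_transl _ hz, Over.comp_left]

theorem isCart_pieceMap {T G : Over S} (g : T ⟶ G) (β : thetaPts A L T) : IsCart (pieceMap L g β) :=
  haveI := isCart_bcLift A L g
  IsCart.comp (isCart_vert _) ((IsCart.of_isIso _).comp (isCart_bcLift A L g))

end Groth.Agent.ThetaSch13
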