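import Groth.Agent.Lib.ThetaSch13.Sheaf
import Groth.Agent.Lib.ThetaSch13.Chart
import Groth.Agent.Lib.Seesaw13.KL
import Groth.Agent.S19945

/-!
# The theta group functor is representable
-/

set_option autoImplicit false
set_option linter.style.haveILetI false
set_option linter.unusedSectionVars false
set_option backward.isDefEq.respectTransparency.types false

universe u

open CategoryTheory CategoryTheory.Limits MonoidalCategory CartesianMonoidalCategory MonObj AlgebraicGeometry Opposite

noncomputable section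

namespace Groth.Agent.ThetaSch13

open ThetaGrp ThetaGrp19

variable {k : Type u} [Field k] {A : Over (Spec (CommRingCat.of k))} [GrpObj A] [IsCommMonObj A] [IsProper A.hom]
  [GeometricallyIntegral A.hom] {L : A.left.Modules}

/-- The point under a point of the theta group lies in `K(L)`. -/
theorem exists_factor (hL : PicF.IsInvertible L) {K : Over (Spec (CommRingCat.of k))} {i : K ⟶ A}
    (hK : IsKL A L i) {T : Over (Spec (CommRingCat.of k))} (δ : thetaPts A L T) :
    ∃ y : T ⟶ K, y ≫ i = ptOf δ := by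
  refine (S19945.result k A L hL K i hK T (ptOf δ)).2 fun t => ⟨⊤, trivial, ?_⟩
  refine ⟨pull (Over.homMk (⊤ : T.left.Opens).ι rfl) δ, ?_⟩
  rw [← ptOf_pull]
  exact isOverPt_ptOf _

/-- Around every point of `K(L)` there is a point of the theta group. -/
theorem exists_local_pt (hL : PicF.IsInvertible L) {K : Over (Spec (CommRingCat.of k))} {i : K ⟶ A}
    (hK : IsKL A L i) (p : K.left) :
    ∃ U : K.left.Opens, p ∈ U ∧ ∃ β : thetaPts A L (Over.mk (U.ι ≫ K.hom)),
      ptOf β = (Over.homMk U.ι rfl : Over.mk (U.ι ≫ K.hom) ⟶ K) ≫ i := by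
  obtain ⟨U, hp, β, hβ⟩ :=
    exists_pt_of_mumfordTriv hL ((hK.univ K i).2 ⟨𝟙 K, Category.id_comp i⟩) p
  exact ⟨U, hp, β, ptOf_eq hβ⟩

/-- The theta group functor is representable. -/
theorem exists_representableBy (hL : PicF.IsInvertible L) :
    ∃ G : Over (Spec (CommRingCat.of k)), Nonempty ((thetaSet A L).RepresentableBy G) := by
  obtain ⟨K, i, hK⟩ := Seesaw13.exists_isKL hL
  haveI : IsClosedImmersion i.left := hK.closed
  haveI : Mono ((Over.forget (Spec (CommRingCat.of k))).map i) := inferInstanceAs (Mono i.left)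
  haveI : Mono i := (Over.forget (Spec (CommRingCat.of k))).mono_of_mono_map ‹_›
  have hA := hzero_of_field A
  have hfac : ∀ (T : Over (Spec (CommRingCat.of k))) (δ : thetaPts A L T), ∃ y : T ⟶ K, y ≫ i = ptOf δ :=
    fun T δ => exists_factor hL hK δ
  choose U hU β hβ using exists_local_pt hL hK
  refine OverRep16.representable_of_charts (isZarSheaf hL) (κ := K.left)
    (fun p => chart hA hL i hfac (U p) (β p) (hβ p)) fun T δ t => ?_
  obtain ⟨y, hy⟩ := hfac T δ
  refine ⟨y.left t, y.left ⁻¹ᵁ U (y.left t), hU _, ?_⟩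
  let g : Over.mk ((y.left ⁻¹ᵁ U (y.left t)).ι ≫ T.hom) ⟶ T := Over.homMk (y.left ⁻¹ᵁ U (y.left t)).ι rfl
  obtain ⟨a, ha⟩ := (exists_piece_iff (U (y.left t)) (g ≫ y)).1 fun z => z.2
  obtain ⟨h, hh⟩ := (exists_univPt_iff hA hL (β (y.left t)) (pull g δ)).2
    ⟨a, by rw [hβ, ptOf_pull, ← hy, reassoc_of% ha]⟩
  exact ⟨h, (thetaSet_map h _).trans (hh.trans (thetaSet_map g δ).symm)⟩

/-- A representing object is a theta group scheme. -/
theorem isThetaGrpSch_of_representableBy {S : Scheme.{u}} {A : Over S} [GrpObj A] {L : A.left.Modules} {G : Over S}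
    (α : (thetaSet A L).RepresentableBy G) :
    ∃ (_ : GrpObj G) (u : thetaPts A L G), IsThetaGrpSch A L G u := by
  letI : GrpObj G := GrpObj.ofRepresentableBy G (thetaFun A L) α
  let u : thetaPts A L G := α.homEquiv (𝟙 G)
  have hE : ∀ {T : Over S} (g : T ⟶ G), α.homEquiv g = pull g u := fun g =>
    (α.homEquiv_eq g).trans (thetaSet_map g u)
  refine ⟨inferInstance, u, ⟨fun T β => ?_, fun T g => existsUnique_bc g u, fun T g h β₁ β₂ h₁ h₂ => ?_⟩⟩
  · obtain ⟨g, hg⟩ := α.homEquiv.surjective β
    refine ⟨g, ?_, fun g' hg' => α.homEquiv.injective ?_⟩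
    · rw [← hg, hE]; exact pull_spec g u
    · rw [hE g', hg]; exact (eq_pull hg').symm
  · have hmul : α.homEquiv (g * h) = (α.homEquiv g * α.homEquiv h : thetaPts A L T) :=
      ((yonedaGrpObjIsoOfRepresentableBy G (thetaFun A L) α).hom.app (op T)).hom.map_mul g h
    have e : pull g u * pull h u = pull (g * h) u :=
      (congrArg₂ (fun x y : thetaPts A L T => x * y) (hE g).symm (hE h).symm).trans (hmul.symm.trans (hE (g * h)))
    rw [eq_pull h₁, eq_pull h₂, e]
    exact pull_spec _ u

end Groth.Agent.ThetaSch13
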