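import Groth.Agent.Lib.ThetaGrp19.AV
import Groth.Agent.Lib.ThetaSch13.Family
import Groth.Agent.Lib.OverRep16.Glue
import Mathlib.Algebra.Category.Grp.Basic

/-!
# The theta group functor is a Zariski sheaf
-/

set_option autoImplicit false
set_option linter.style.haveILetI false
set_option linter.unusedSectionVars false
set_option backward.isDefEq.respectTransparency.types false

universe u

open CategoryTheory CategoryTheory.Limits MonoidalCategory CartesianMonoidalCategory MonObj AlgebraicGeometry Opposite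
open TopologicalSpace

noncomputable section

namespace Groth.Agent.ThetaSch13

open ThetaGrp ThetaGrp19 ThetaDesc13

variable {S : Scheme.{u}} {A : Over S} [GrpObj A] {L : A.left.Modules}

theorem exists_glue_over {T B : Over S} (𝒰 : Scheme.OpenCover.{u+1} T.left)
    (w : ∀ k, Over.mk (𝒰.f k ≫ T.hom) ⟶ B)
    (hw : ∀ k l, pullback.fst (𝒰.f k) (𝒰.f l) ≫ (w k).left = pullback.snd (𝒰.f k) (𝒰.f l) ≫ (w l).left) :
    ∃ z : T ⟶ B, ∀ k, OverRep16.piece 𝒰 k ≫ z = w k := by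
  have h : 𝒰.glueMorphisms (fun k => (w k).left) hw ≫ B.hom = T.hom := 𝒰.hom_ext _ _ fun k => by
    rw [← Category.assoc, 𝒰.ι_glueMorphisms]
    exact Over.w (w k)
  refine ⟨Over.homMk _ h, fun k => Over.OverMorphism.ext ?_⟩
  simp only [Over.comp_left, OverRep16.piece, Over.homMk_left]
  exact 𝒰.ι_glueMorphisms _ _ k

theorem isZarSheaf (hL : PicF.IsInvertible L) : OverRep16.IsZarSheaf (thetaSet A L) := by
  intro T 𝒰 x hx
  let Tk := fun k => Over.mk (𝒰.f k ≫ T.hom)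
  let β : ∀ k, thetaPts A L (Tk k) := x
  have hβ : ∀ (k l : 𝒰.I₀) (T' : Over S) (a : T' ⟶ Tk k) (b : T' ⟶ Tk l),
      a.left ≫ 𝒰.f k = b.left ≫ 𝒰.f l → pull a (β k) = pull b (β l) := fun k l T' a b hab =>
    (thetaSet_map a (β k)).symm.trans ((hx k l T' a b hab).trans (thetaSet_map b (β l)))
  obtain ⟨z, hz⟩ := exists_glue_over 𝒰 (fun k => ptOf (β k)) fun k l => by
    let T' : Over S := Over.mk (pullback.fst (𝒰.f k) (𝒰.f l) ≫ (Tk k).hom)
    let a : T' ⟶ Tk k := Over.homMk (pullback.fst (𝒰.f k) (𝒰.f l)) rfl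
    let b : T' ⟶ Tk l := Over.homMk (pullback.snd (𝒰.f k) (𝒰.f l)) (by
      show pullback.snd (𝒰.f k) (𝒰.f l) ≫ 𝒰.f l ≫ T.hom = pullback.fst _ _ ≫ 𝒰.f k ≫ T.hom
      rw [← Category.assoc, ← Category.assoc, pullback.condition])
    have h := congrArg ptOf (hβ k l T' a b pullback.condition)
    rw [ptOf_pull, ptOf_pull] at h
    have h2 := congrArg Over.Hom.left h
    rw [Over.comp_left, Over.comp_left] at h2
    exact h2
  have hfam : ∀ {I : Type u} (κ : I → 𝒰.I₀), (∀ t : T.left, ∃ i, t ∈ Set.range (𝒰.f (κ i))) →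
      ∃! γ : thetaPts A L T, ∀ i, pull (OverRep16.piece 𝒰 (κ i)) γ = β (κ i) := fun κ hκ =>
    haveI : ∀ i, IsOpenImmersion (OverRep16.piece 𝒰 (κ i)).left := fun i =>
      inferInstanceAs (IsOpenImmersion (𝒰.f (κ i)))
    existsUnique_of_family (Tk := fun i => Tk (κ i)) (fun i => OverRep16.piece 𝒰 (κ i)) hL hκ (fun i => β (κ i))
      (fun i j T' a b h => hβ _ _ T' a b (congrArg CommaMorphism.left h)) z fun i => hz (κ i)
  obtain ⟨γ, hγ, hγu⟩ := hfam (fun t => 𝒰.idx t) fun t => ⟨t, 𝒰.covers t⟩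
  refine ⟨γ, fun k => (thetaSet_map (L := L) (OverRep16.piece 𝒰 k) γ).trans ?_, fun γ' h' => hγu γ' fun t =>
    (thetaSet_map (L := L) (OverRep16.piece 𝒰 (𝒰.idx t)) γ').symm.trans (h' (𝒰.idx t))⟩
  let κ : Option T.left → 𝒰.I₀ := fun o => o.elim k fun t => 𝒰.idx t
  obtain ⟨γ', h', -⟩ := hfam κ fun t => ⟨some t, 𝒰.covers t⟩
  rw [← hγu γ' fun t => h' (some t)]
  exact h' none

end Groth.Agent.ThetaSch13
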