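import Groth.Agent.Lib.ThetaSch13.Rep
import Groth.Agent.Lib.MTRigid29.HomCases
import Groth.Agent.Lib.MTRigid29.MonoClosedGlobal

/-!
# A theta group scheme over `K(L)`
-/

set_option autoImplicit false
set_option linter.style.haveILetI false
set_option linter.unusedSectionVars false
set_option backward.isDefEq.respectTransparency.types false

universe u

open CategoryTheory CategoryTheory.Limits MonoidalCategory CartesianMonoidalCategory MonObj AlgebraicGeometry Opposite
open TopologicalSpace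

noncomputable section

namespace Groth.Agent.ThetaSch13

open ThetaGrp ThetaGrp19

theorem locallyOfFiniteType_Gm (S : Scheme.{u}) : LocallyOfFiniteType (Red.Gm S).hom := by
  haveI : LocallyOfFinitePresentation (Red.diag (ULift.{u} ℤ) ℤ).hom :=
    (HasRingHomProperty.Spec_iff (P := @LocallyOfFinitePresentation)).2
      (RingHom.finitePresentation_algebraMap.2 (MTRigid29.isFP_monoidAlgebra _ ℤ))
  haveI : LocallyOfFinitePresentation (Red.Gm S).hom := MorphismProperty.pullback_snd _ _ inferInstance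
  infer_instance

theorem mono_homMk_ι {S : Scheme.{u}} {G : Over S} (O : G.left.Opens) :
    Mono (Over.homMk O.ι rfl : Over.mk (O.ι ≫ G.hom) ⟶ G) := by
  haveI : Mono ((Over.forget S).map (Over.homMk O.ι rfl : Over.mk (O.ι ≫ G.hom) ⟶ G)) :=
    inferInstanceAs (Mono O.ι)
  exact (Over.forget S).mono_of_mono_map ‹_›

variable {S : Scheme.{u}} {A : Over S} [GrpObj A] {L : A.left.Modules}
  (hA : HZero A) (hL : PicF.IsInvertible L) {G : Over S} [GrpObj G] {u : thetaPts A L G}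
  (hG : IsThetaGrpSch A L G u)

include hG in
theorem eq_of_pull_eq {T : Over S} {g g' : T ⟶ G} (h : pull g u = pull g' u) : g = g' :=
  (hG.univ T (pull g u)).unique (pull_spec g u) (h ▸ pull_spec g' u)

variable {K : Over S} (i : K ⟶ A) [Mono i] (q : G ⟶ K) (hq : q ≫ i = ptOf u)
  (U : K.left.Opens) (β : thetaPts A L (Over.mk (U.ι ≫ K.hom)))
  (hβ : ptOf β = (Over.homMk U.ι rfl : Over.mk (U.ι ≫ K.hom) ⟶ K) ≫ i)

include hA hL hG hq hβ in
/-- Over a piece with a chosen point, the theta group is the piece times the multiplicative group. -/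
theorem exists_iso_piece :
    ∃ e : Over.mk ((q.left ⁻¹ᵁ U).ι ≫ G.hom) ≅ Over.mk (U.ι ≫ K.hom) ⊗ Red.Gm S,
      e.hom ≫ fst _ _ ≫ (Over.homMk U.ι rfl : Over.mk (U.ι ≫ K.hom) ⟶ K) =
        (Over.homMk (q.left ⁻¹ᵁ U).ι rfl : Over.mk ((q.left ⁻¹ᵁ U).ι ≫ G.hom) ⟶ G) ≫ q := by
  let V := Over.mk (U.ι ≫ K.hom) ⊗ Red.Gm S
  let j : Over.mk ((q.left ⁻¹ᵁ U).ι ≫ G.hom) ⟶ G := Over.homMk (q.left ⁻¹ᵁ U).ι rfl
  haveI hj : Mono j := mono_homMk_ι _
  obtain ⟨a, ha⟩ := (exists_piece_iff U (j ≫ q)).1 fun z => z.2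
  obtain ⟨c, hc⟩ := (exists_univPt_iff hA hL β (pull j u)).2
    ⟨a, by rw [hβ, ptOf_pull, ← hq, reassoc_of% ha]⟩
  obtain ⟨h₀, hh₀, -⟩ := hG.univ V (univPt β)
  have e₀ : univPt β = pull h₀ u := eq_pull hh₀
  have hb : ptOf (univPt β) = fst _ _ ≫ ptOf β := by rw [univPt, ptOf_scalPt, ptOf_pull]
  have hq₀ : h₀ ≫ q = fst _ _ ≫ (Over.homMk U.ι rfl : Over.mk (U.ι ≫ K.hom) ⟶ K) := by
    rw [← cancel_mono i, Category.assoc, Category.assoc, hq, ← hβ, ← ptOf_pull, ← e₀, hb]
  have hmem : ∀ z, h₀.left z ∈ q.left ⁻¹ᵁ U := fun z => by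
    show q.left (h₀.left z) ∈ U
    rw [← Scheme.Hom.comp_apply, ← Over.comp_left, hq₀]
    exact ((fst (Over.mk (U.ι ≫ K.hom)) (Red.Gm S)).left z).2
  obtain ⟨d, hd⟩ := (exists_piece_iff (q.left ⁻¹ᵁ U) h₀).1 hmem
  have hcd : c ≫ d = 𝟙 _ := (cancel_mono j).1 (by
    rw [Category.assoc, hd, Category.id_comp]
    exact eq_of_pull_eq hG (by rw [← pull_pull, ← e₀, hc]))
  haveI : Mono (ptOf β) := by
    haveI := mono_homMk_ι (G := K) U
    rw [hβ]; exact mono_comp _ _
  have hdc : d ≫ c = 𝟙 _ := univPt_injective hA hL (by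
    rw [← pull_pull, hc, pull_pull, hd, ← e₀, pull_id])
  refine ⟨⟨c, d, hcd, hdc⟩, ?_⟩
  show c ≫ _ = j ≫ q
  rw [← hq₀, ← Category.assoc, ← hd, ← Category.assoc c, hcd, Category.id_comp]

variable (hloc : ∀ p : K.left, ∃ U : K.left.Opens, p ∈ U ∧ ∃ β : thetaPts A L (Over.mk (U.ι ≫ K.hom)),
  ptOf β = (Over.homMk U.ι rfl : Over.mk (U.ι ≫ K.hom) ⟶ K) ≫ i)

include hA hL hG hq hloc in
/-- The theta group is affine and of finite type over `K(L)`. -/
theorem isAffineHom_and_locallyOfFiniteType : IsAffineHom q.left ∧ LocallyOfFiniteType q.left := by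
  choose U hU β hβ using hloc
  have hcov : iSup U = ⊤ := top_le_iff.1 fun p _ => Opens.mem_iSup.2 ⟨p, hU p⟩
  have key : ∀ p, IsAffineHom (q.left ∣_ U p) ∧ LocallyOfFiniteType (q.left ∣_ U p) := fun p => by
    obtain ⟨e, he⟩ := exists_iso_piece hA hL hG i q hq (U p) (β p) (hβ p)
    have h : q.left ∣_ U p = e.hom.left ≫ (fst (Over.mk ((U p).ι ≫ K.hom)) (Red.Gm S)).left := by
      rw [← cancel_mono (U p).ι, morphismRestrict_ι, Category.assoc]
      have := congrArg Over.Hom.left he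
      rw [Over.comp_left, Over.comp_left, Over.comp_left] at this
      exact this.symm
    haveI : IsIso e.hom.left := inferInstanceAs (IsIso ((Over.forget S).map e.hom))
    have h1 : IsAffineHom (fst (Over.mk ((U p).ι ≫ K.hom)) (Red.Gm S)).left :=
      MorphismProperty.pullback_fst _ _ (MTRigid29.isAffineHom_DS S ℤ)
    have h2 : LocallyOfFiniteType (fst (Over.mk ((U p).ι ≫ K.hom)) (Red.Gm S)).left :=
      MorphismProperty.pullback_fst _ _ (locallyOfFiniteType_Gm S)
    constructor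
    · exact h ▸ MorphismProperty.comp_mem _ _ _ inferInstance h1
    · exact h ▸ MorphismProperty.comp_mem _ _ _ inferInstance h2
  exact ⟨IsZariskiLocalAtTarget.of_iSup_eq_top (P := @IsAffineHom) U hcov fun p => (key p).1,
    IsZariskiLocalAtTarget.of_iSup_eq_top (P := @LocallyOfFiniteType) U hcov fun p => (key p).2⟩

end Groth.Agent.ThetaSch13
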